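import Cfsg.Agent.Helper95.Hig.Defs

/-!
Helper95, project HIG: identities in `SL₂(K)` (`char K = 2`) and the `S₃`-relations on a Higman module.
-/

set_option autoImplicit false

namespace Cfsg.Agent.Helper95.Hig

open Cfsg.Agent.Helper40.SL2Hom

universe u v

section SLA
variable {K : Type u} [Field K] [CharP K 2]

theorem U_add (γ δ : K) : (U (γ + δ) : SL2 K) = U γ * U δ := by
  apply sl2_ext <;>
  · simp only [Matrix.SpecialLinearGroup.coe_mul, U_coe]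
    simp [Matrix.mul_apply, Fin.sum_univ_two, add_comm]

theorem U_zero : (U (0 : K) : SL2 K) = 1 := by
  apply sl2_ext <;> simp [U_coe]

theorem U_sq (γ : K) : (U γ : SL2 K) * U γ = 1 := by
  rw [← U_add, CharTwo.add_self_eq_zero, U_zero]

theorem U_comm (γ δ : K) : (U γ : SL2 K) * U δ = U δ * U γ := by
  rw [← U_add, ← U_add, add_comm]

theorem W_sq : (W : SL2 K) * W = 1 := by
  apply sl2_ext <;>
  · simp only [Matrix.SpecialLinearGroup.coe_mul, W_coe]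
    simp [Matrix.mul_apply, Fin.sum_univ_two, CharTwo.neg_eq]

theorem L_eq (γ : K) : (L γ : SL2 K) = W * U γ * W := by
  apply sl2_ext <;>
  · simp only [Matrix.SpecialLinearGroup.coe_mul, W_coe, U_coe, L_coe]
    simp [Matrix.mul_apply, Fin.sum_univ_two, CharTwo.neg_eq]

theorem W_eq : (W : SL2 K) = U 1 * L 1 * U 1 := by
  apply sl2_ext <;>
  · simp only [Matrix.SpecialLinearGroup.coe_mul, W_coe, U_coe, L_coe]
    simp [Matrix.mul_apply, Fin.sum_univ_two, CharTwo.neg_eq, CharTwo.add_self_eq_zero]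

theorem UL_sq (γ : K) (hγ : γ ≠ 0) :
    (U γ * L γ⁻¹ : SL2 K) * (U γ * L γ⁻¹) = L γ⁻¹ * U γ := by
  apply sl2_ext <;>
  · simp only [Matrix.SpecialLinearGroup.coe_mul, U_coe, L_coe]
    simp [Matrix.mul_apply, Fin.sum_univ_two, hγ, CharTwo.add_self_eq_zero]

theorem UL_cube (γ : K) (hγ : γ ≠ 0) : (U γ * L γ⁻¹ : SL2 K) ^ 3 = 1 := by
  rw [pow_succ, pow_two, UL_sq γ hγ]
  apply sl2_ext <;>
  · simp only [Matrix.SpecialLinearGroup.coe_mul, U_coe, L_coe, Matrix.SpecialLinearGroup.coe_one]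
    simp [Matrix.mul_apply, Fin.sum_univ_two, hγ, CharTwo.add_self_eq_zero]

theorem UL_ne_one (γ : K) (hγ : γ ≠ 0) : (U γ * L γ⁻¹ : SL2 K) ≠ 1 := by
  intro h
  have := congrArg (fun g : SL2 K => g 0 1) h
  simp only [Matrix.SpecialLinearGroup.coe_mul, U_coe, L_coe, Matrix.SpecialLinearGroup.coe_one] at this
  simp [Matrix.mul_apply, Fin.sum_univ_two, hγ] at this

theorem ord3 (γ : K) (hγ : γ ≠ 0) : orderOf (U γ * L γ⁻¹ : SL2 K) = 3 := by
  have hprime : Nat.Prime 3 := by norm_num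
  have : Fact (Nat.Prime 3) := ⟨hprime⟩
  exact orderOf_eq_prime (UL_cube γ hγ) (UL_ne_one γ hγ)

theorem wg_sq (γ : K) (hγ : γ ≠ 0) :
    (U γ * L γ⁻¹ * U γ : SL2 K) * (U γ * L γ⁻¹ * U γ) = 1 := by
  apply sl2_ext <;>
  · simp only [Matrix.SpecialLinearGroup.coe_mul, U_coe, L_coe, Matrix.SpecialLinearGroup.coe_one]
    simp [Matrix.mul_apply, Fin.sum_univ_two, hγ, CharTwo.add_self_eq_zero]

theorem wg_conj (γ δ : K) (hγ : γ ≠ 0) :
    (U γ * L γ⁻¹ * U γ : SL2 K) * U δ * (U γ * L γ⁻¹ * U γ) = L (δ / γ ^ 2) := by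
  apply sl2_ext <;>
  · simp only [Matrix.SpecialLinearGroup.coe_mul, U_coe, L_coe]
    simp [Matrix.mul_apply, Fin.sum_univ_two, hγ, CharTwo.add_self_eq_zero]
    try (field_simp)
    try (ring_nf)

end SLA

section S3R
variable {K : Type u} [Field K] [CharP K 2] {V : Type v} [AddCommGroup V] [Module (ZG K) V]

/-- the `S₃`-relations on a Higman module: `1 + U γ L γ⁻¹ + L γ⁻¹ U γ = 0` and
`U γ + L γ⁻¹ + w_γ = 0`, `w_γ = U γ L γ⁻¹ U γ`. -/
theorem s3r (hH : IsHig K V) (γ : K) (hγ : γ ≠ 0) (x : V) :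
    x + act (U γ) (act (L γ⁻¹) x) + act (L γ⁻¹) (act (U γ) x) = 0 ∧
    act (U γ) x + act (L γ⁻¹) x + act (U γ * L γ⁻¹ * U γ) x = 0 := by
  have key : ∀ y : V, y + act (U γ) (act (L γ⁻¹) y) + act (L γ⁻¹) (act (U γ) y) = 0 := by
    intro y
    have h := hH (U γ * L γ⁻¹) (ord3 γ hγ) y
    rw [← act_mul (U γ * L γ⁻¹) (U γ * L γ⁻¹) y, UL_sq γ hγ, act_mul, act_mul] at h
    exact h
  refine ⟨key x, ?_⟩
  have h := congrArg (act (U γ)) (key x)
  rw [map_add, map_add, map_zero, ← act_mul (U γ) (U γ), U_sq, act_one, ← act_mul (U γ) (L γ⁻¹),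
    ← act_mul (U γ * L γ⁻¹) (U γ)] at h
  exact h

end S3R

end Cfsg.Agent.Helper95.Hig
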