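import Cfsg.Agent.Helper95.Hig.Basic
import Cfsg.Agent.Helper50.HIG_CHR
import Cfsg.Agent.Helper24.HIG_CJ3
import Cfsg.Agent.Helper50.HIG_SIM
import Cfsg.Agent.Helper84.HIG_TRI
import Cfsg.Agent.Helper84.HIG_O3C
import Cfsg.Agent.Helper24.HIG_TWI
import Cfsg.Agent.Helper64.HIG_LMA
import Cfsg.Agent.Helper59.HIG_FQ
import Cfsg.Agent.Helper51.HIG_CMG
import Cfsg.Agent.Helper59.HIG_AFP
import Cfsg.Agent.Helper51.HIG_REP
import Cfsg.Agent.Helper51.HIG_HRP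
import Cfsg.Agent.Helper75.HIG_FIN
import Cfsg.Prelude.Def_Transfer
import Cfsg.Prelude.Def_BaumannBlocks

set_option autoImplicit false

namespace Cfsg.Agent.Helper95.Hig

open Cfsg.Agent.Helper40.SL2Hom

universe u v

/-! ## facts about `SL₂(K)` -/
section sl
variable {K : Type u} [Field K]

/-- (CHR) the characteristic `p` of a finite field satisfies `card K = p ^ m`; compare with `2 ^ n`. -/
theorem chr [Fintype K] (n : ℕ) (hn : 1 ≤ n) (hK : Fintype.card K = 2 ^ n) : CharP K 2 := by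
  exact Cfsg.Agent.Helper50.Hig.chr n hn hK

/-- (CJ3) `g³ = 1 ≠ g` forces `tr g = 1`: by Cayley–Hamilton `g² = t g + 1` (`det = 1`, `char = 2`),
`g³ = (t² + 1) g + t`; if `t ≠ 1` then `g` is scalar, `g = 1`. A matrix `g ∈ SL₂(K)` with trace 1 is
not scalar, so some `e ∈ {e₁, e₂, e₁ + e₂}` has `e, g e` independent; in the basis `(e, g e)` the matrix of
`g` is `[[0,1],[1,1]]` (`g² e = g e + e`). So `P⁻¹ g P = [[0,1],[1,1]]` with `P = [e | g e] ∈ GL₂(K)`;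
replace `P` by `λ P` with `λ² = (det P)⁻¹` (every element of a finite field of characteristic 2 is a
square). Hence any two elements of order 3 are conjugate to `[[0,1],[1,1]]`, hence to each other. -/
theorem cj3 [Finite K] [CharP K 2] (g h : SL2 K) (hg : orderOf g = 3) (hh : orderOf h = 3) :
    ∃ a : SL2 K, a * g * a⁻¹ = h := by
  exact Cfsg.Agent.Helper24.Hig.cj3 g h hg hh

/-- (SIM) `Cfsg.Agent.Helper5.isSimpleGroup_PSL2_of_card` (file `Cfsg/Agent/Helper5/PSL2Simple.lean`) gives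
the simplicity of `PSL₂(K)`; in characteristic 2 the centre of `SL₂(K)` is trivial
(`Matrix.SpecialLinearGroup.mem_center_iff`: scalar `r` with `r² = 1`, so `r = 1`), so
`SL₂(K) ≃* PSL₂(K)`. -/
theorem sim [Finite K] [CharP K 2] (hK : 4 ≤ Nat.card K) : IsSimpleGroup (SL2 K) := by
  exact Cfsg.Agent.Helper50.Hig.sim hK

end sl

/-! ## the group side -/
section grp
variable {G : Type v} [Group G]

/-- (TRI) `y ↦ y⁻¹ * (σ y σ⁻¹)` is injective on `Q` (fixed-point-freeness), hence bijective (`Q` finite);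
for `y = w⁻¹ * σ w σ⁻¹` the product telescopes to `w⁻¹ * σ³ w σ⁻³ = 1`. -/
theorem tri [Finite G] (Q : Subgroup G) [Q.Normal] (σ : G) (hσ : σ ^ 3 = 1)
    (hfpf : ∀ y ∈ Q, σ * y * σ⁻¹ = y → y = 1) :
    ∀ y ∈ Q, y * (σ * y * σ⁻¹) * (σ * σ * y * σ⁻¹ * σ⁻¹) = 1 := by
  exact Cfsg.Agent.Helper84.Hig.tri Q σ hσ hfpf

/-- (O3C) `(σ z)³ = σ³ * (σ⁻² z σ²) * (σ⁻¹ z σ) * z = (σ z σ⁻¹) * (σ⁻¹ z σ) * z` (`σ³ = 1`), which is `1` by
(TRI) for `σ` applied to `y = σ z σ⁻¹` (note `σ * σ * y * σ⁻¹ * σ⁻¹ = z`, `σ * y * σ⁻¹ = σ⁻¹ z σ`).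
`σ z ≠ 1` since `σ ∉ Q` (`Q` is a 2-group, `σ` has order 3). (TRI) may be reproved inline. -/
theorem o3c [Finite G] (Q : Subgroup G) [Q.Normal] (hQ : IsPGroup 2 ↥Q) (σ : G) (hσ : orderOf σ = 3)
    (hfpf : ∀ y ∈ Q, σ * y * σ⁻¹ = y → y = 1) (z : G) (hz : z ∈ Q) : orderOf (σ * z) = 3 := by
  exact Cfsg.Agent.Helper84.Hig.o3c Q hQ σ hσ hfpf z hz

/-- (TWI) Write `ˢy = σ y σ⁻¹`, `c(y,z) = cm y z` (bimultiplicative on `Q` with values central in `Q`, by `hcl`).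
For `z ∈ Q`, `τ = σ z` has order 3 (O3C) and is fixed-point-free on `Q` (`hfpf`), so (TRI) holds for `σ`
and for `τ`. `ᵗy = ˢy · ˢc(z,y)`, `τ² = σ² z' z` with `z' = σ⁻¹ z σ`, `ᵗᵗy = ˢˢy · ˢˢc(z',y) · ˢˢc(z,y)`.
(TRI) for `τ` divided by (TRI) for `σ`: `ˢc(z,y) · ˢˢc(z,y) · ˢˢc(z',y) = 1`; (TRI) for `σ` applied to
`c(z,y) ∈ Q`: `ˢc · ˢˢc = c⁻¹`. Hence `ˢˢc(σ⁻¹ z σ, y) = c(z,y)`, i.e. `c(ˢz, ˢˢy) = c(z,y)`, i.e.
`c(ˢz, y) = c(z, ˢy)` for all `y z ∈ Q`. With `c(ˢz,ˢy) = ˢc(z,y)` this gives `c(z, ˢˢy) = ˢc(z,y)`; now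
replace `σ` by `σ⁻¹` (same hypotheses) and use `⁅a,b⁆⁻¹ = ⁅b,a⁆`. -/
theorem twi [Finite G] (Q : Subgroup G) [Q.Normal] (hQ : IsPGroup 2 ↥Q)
    (hcl : ∀ a ∈ Q, ∀ b ∈ Q, ∀ c ∈ Q, cm (cm a b) c = 1)
    (hfpf : ∀ g : G, orderOf g = 3 → ∀ y ∈ Q, g * y * g⁻¹ = y → y = 1)
    (σ : G) (hσ : orderOf σ = 3) :
    ∀ y ∈ Q, ∀ z ∈ Q, cm (σ * y * σ⁻¹) z = σ⁻¹ * cm y z * σ := by
  exact Cfsg.Agent.Helper24.Hig.twi Q hQ hcl hfpf σ hσ

/-- (LMA) Write `⁅y,z⁆` for `cm y z`. `L := ⁅Q,Q⁆` (the subgroup generated by the `cm y z`, central in `Q` by `hcl`).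
`𝒩 := {g | ∃ T : L →* L, ∀ y z ∈ Q, ⁅g y g⁻¹, z⁆ = T ⁅y,z⁆}`.
`Q ⊆ 𝒩` (`T = id`), elements of order 3 are in `𝒩` (`T =` conjugation by `g⁻¹`, by `htwi`), `𝒩` is closed
under products (`T_{gh} = T_g T_h`) hence a subgroup (`G` finite), and normal
(`T' = conj_h ∘ T ∘ conj_h⁻¹`). `T` is unique (commutators generate `L`). `𝒩 / Q` is a nontrivial normal
subgroup of the simple group `G ⧸ Q`, so `𝒩 = G`. For `g ∈ 𝒩`: `g ⁅y,z⁆ g⁻¹ = ⁅gyg⁻¹, gzg⁻¹⁆ = T (T ⁅y,z⁆)`.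
For `t` (`t² ∈ Q`): `T_t ∘ T_t` and `id` both serve `t²`, so `T_t² = id` and `t` centralises `L`.
`C_G(L)` is normal, contains `Q` and `t ∉ Q`, so `C_G(L) = G ∋ x`; `x` is fixed-point-free: `L = 1`. -/
theorem lma [Finite G] (Q : Subgroup G) [Q.Normal]
    (hcl : ∀ a ∈ Q, ∀ b ∈ Q, ∀ c ∈ Q, cm (cm a b) c = 1)
    (hfpf : ∀ g : G, orderOf g = 3 → ∀ y ∈ Q, g * y * g⁻¹ = y → y = 1)
    (htwi : ∀ σ : G, orderOf σ = 3 → ∀ y ∈ Q, ∀ z ∈ Q, cm (σ * y * σ⁻¹) z = σ⁻¹ * cm y z * σ)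
    (hsimple : IsSimpleGroup (G ⧸ Q))
    (x : G) (hx : orderOf x = 3) (hxQ : x ∉ Q) (t : G) (htQ : t ∉ Q) (ht2 : t * t ∈ Q) :
    ∀ a ∈ Q, ∀ b ∈ Q, a * b = b * a := by
  exact Cfsg.Agent.Helper64.Hig.lma Q hcl hfpf htwi hsimple x hx hxQ t htQ ht2

/-- (FQ) Let `ḡ ∈ G ⧸ M` have order 3, `ḡ = mk g`. Write `g = g₃ g₂` (commuting 3-part and 3'-part, powers
of `g`); `mk g₂` has order dividing 3 and prime to 3, so `g₂ ∈ M` and `ḡ = mk g₃`; `g₃³ ∈ M` is a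
3-element of the 2-group `M`, so `g₃` has order 3. If `ḡ` fixes `mk y` (`y ∈ Q`) then `⟨g₃⟩` (order 3)
acts on the coset `y M` (of 2-power size) by conjugation, so it has a fixed point `y' ∈ y M ∩ Q`;
`y' = 1` by `hfpf`, i.e. `mk y = 1`. -/
theorem fq [Finite G] (Q M : Subgroup G) [Q.Normal] [M.Normal] (hMQ : M ≤ Q) (hQ : IsPGroup 2 ↥Q)
    (hfpf : ∀ g : G, orderOf g = 3 → ∀ y ∈ Q, g * y * g⁻¹ = y → y = 1) :
    ∀ g : G ⧸ M, orderOf g = 3 → ∀ y ∈ Q.map (QuotientGroup.mk' M), g * y * g⁻¹ = y → y = 1 := by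
  exact Cfsg.Agent.Helper59.Hig.fq Q M hMQ hQ hfpf

/-- (CMG) (second wave; uses (TWI), (LMA), (FQ)) `M := ⁅⁅Q,Q⁆,Q⁆` is normal in `G`. Apply (LMA) (with (TWI))
to `G ⧸ M` and `Q.map (mk' M)` (class ≤ 2; `(G ⧸ M) ⧸ (Q/M) ≃* G ⧸ Q` is simple; images of `x`, `t`):
`Q/M` is abelian, i.e. `⁅Q,Q⁆ ≤ ⁅⁅Q,Q⁆,Q⁆`, and `Q` is nilpotent, so `⁅Q,Q⁆ = ⊥`. -/
theorem cmg [Finite G] (Q : Subgroup G) [Q.Normal] (hQ : IsPGroup 2 ↥Q)
    (hfpf : ∀ g : G, orderOf g = 3 → ∀ y ∈ Q, g * y * g⁻¹ = y → y = 1)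
    (hsimple : IsSimpleGroup (G ⧸ Q))
    (x : G) (hx : orderOf x = 3) (t : G) (htQ : t ∉ Q) (ht2 : t * t ∈ Q) :
    ∀ a ∈ Q, ∀ b ∈ Q, a * b = b * a := by
  exact Cfsg.Agent.Helper51.Hig.cmg_of
    (fun Q _ hQ hcl hfpf σ hσ => twi Q hQ hcl hfpf σ hσ)
    (fun Q _ hcl hfpf htwi hs x hx hxQ t htQ ht2 => lma Q hcl hfpf htwi hs x hx hxQ t htQ ht2)
    (fun Q M _ _ hMQ hQ hfpf => fq Q M hMQ hQ hfpf)
    Q hQ hfpf hsimple x hx t htQ ht2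

variable {K : Type u} [Field K]

/-- (AFP) Let `g` have order 3. `e (mk g)` and `e (mk x)` have order 3 in `SL₂(K)` (`Q` is a 2-group, so
`g, x ∉ Q`), so they are conjugate (`hcj`): `h g h⁻¹ ∈ x Q` for some `h`. Every element `x z` (`z ∈ Q`) is
`Q`-conjugate to `x`: the map `w ↦ x⁻¹ w x w⁻¹` is injective on the finite set `Q` (fixed-point-freeness),
hence surjective, and `x z = w x w⁻¹` if `z = x⁻¹ w x w⁻¹`. So `g` is conjugate to `x`, and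
fixed-point-freeness on the normal subgroup `Q` is invariant under conjugation. -/
theorem afp [Finite G] (Q : Subgroup G) [Q.Normal] (hQ : IsPGroup 2 ↥Q)
    (e : G ⧸ Q ≃* SL2 K)
    (hcj : ∀ g h : SL2 K, orderOf g = 3 → orderOf h = 3 → ∃ a : SL2 K, a * g * a⁻¹ = h)
    (x : G) (hx : orderOf x = 3)
    (hfpf : ∀ q ∈ Q, x * q * x⁻¹ = q → q = 1) :
    ∀ g : G, orderOf g = 3 → ∀ q ∈ Q, g * q * g⁻¹ = q → q = 1 := by
  exact Cfsg.Agent.Helper59.Hig.afp Q hQ e hcj x hx hfpf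

/-- (REP) `A` is a commutative copy of `Q` (`j : A ≃* Q`; in particular `Q` is abelian).
`MulAut.conjNormal : G →* MulAut Q` is trivial on `Q`, so it factors through `G ⧸ Q`; compose with `e.symm`,
transport along `j`, and with `MulAut A → AddAut (Additive A) → Module.End ℤ (Additive A)`. -/
theorem rep (Q : Subgroup G) [hn : Q.Normal] (A : Type v) [CommGroup A] (j : A ≃* ↥Q)
    (e : G ⧸ Q ≃* SL2 K) :
    ∃ ρ : Representation ℤ (SL2 K) (Additive A), ∀ (g : G) (a : A),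
      ρ (e (QuotientGroup.mk g)) (Additive.ofMul a)
        = Additive.ofMul (j.symm (⟨g * (j a : G) * g⁻¹, hn.conj_mem _ (j a).2 g⟩ : ↥Q)) := by
  exact Cfsg.Agent.Helper51.Hig.rep Q A j e

/-- (HRP) Let `τ ∈ SL₂(K)` have order 3 and `τ = e (mk g)`. As in (FQ) one may take `g` of order 3
(`g = g₃ g₂`, `g₂ ∈ Q`). Then `ρ τ` is conjugation by `g`, which is fixed-point-free on `Q` (`hfpf`), and
`1 + ρ τ + ρ τ²` applied to any element is a fixed point (`g³ = 1`), so it is `0`.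
(`act τ x` is computed by `act_asModule`.) -/
theorem hrp [Finite G] (Q : Subgroup G) [hn : Q.Normal] (hQ : IsPGroup 2 ↥Q)
    (A : Type v) [CommGroup A] (j : A ≃* ↥Q) (e : G ⧸ Q ≃* SL2 K)
    (hfpf : ∀ g : G, orderOf g = 3 → ∀ y ∈ Q, g * y * g⁻¹ = y → y = 1)
    (ρ : Representation ℤ (SL2 K) (Additive A))
    (hρ : ∀ (g : G) (a : A), ρ (e (QuotientGroup.mk g)) (Additive.ofMul a)
        = Additive.ofMul (j.symm (⟨g * (j a : G) * g⁻¹, hn.conj_mem _ (j a).2 g⟩ : ↥Q))) :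
    IsHig K ρ.asModule := by
  exact Cfsg.Agent.Helper51.Hig.hrp Q hQ A j e hfpf ρ hρ

/-- (FIN) `V i := {j a | ∀ l ≠ i, ι a l = 0}` (a subgroup of `G` inside `Q`), normal in `G` by `hι`.
`ρ := e ∘ mk ∘ (⊤ ↪ G)` (surjective), `ψ u := ofAdd (ι (j.symm u) i)` (a bijection `V i → K²`: surjective
via `ι.symm (Pi.single i f)`, injective since the other coordinates vanish); equivariance is `hι`.
Independence: on `⨆_{l ≠ i} V l` the `i`-th coordinate vanishes. `⨆ V i = Q`: every `a` is the product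
of the `ι.symm (Pi.single i (ι a i))`. -/
theorem fin (Q : Subgroup G) [hn : Q.Normal] (A : Type v) [CommGroup A] (j : A ≃* ↥Q)
    (e : G ⧸ Q ≃* SL2 K) (k : ℕ)
    (ι : Additive A ≃+ (Fin k → Fin 2 → K))
    (hι : ∀ (g : G) (a : A) (i : Fin k),
      ι (Additive.ofMul (j.symm (⟨g * (j a : G) * g⁻¹, hn.conj_mem _ (j a).2 g⟩ : ↥Q))) i
        = ((e (QuotientGroup.mk g) : SL2 K) : Matrix (Fin 2) (Fin 2) K).mulVec
            (ι (Additive.ofMul a) i)) :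
    ∃ V : Fin k → Subgroup G, (∀ i, V i ≤ Q ∧ (V i).Normal ∧
        Cfsg.ActsAsSL2OnSection K ⊤ ⊤ (V i) ⊥) ∧ iSupIndep V ∧ ⨆ i, V i = Q := by
  exact Cfsg.Agent.Helper75.Hig.fin Q A j e k ι hι

end grp

end Cfsg.Agent.Helper95.Hig
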