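import Cfsg.Agent.Helper95.Hig.Main1
import Cfsg.Agent.Helper95.Hig.Pieces5

set_option autoImplicit false

namespace Cfsg.Agent.Helper95.Hig

open Cfsg.Agent.Helper40.SL2Hom

universe u v

/-- **Higman's theorem** (the statement S3050). -/
theorem higman {G : Type v} [Group G] [Finite G]
    (Q : Subgroup G) [hn : Q.Normal] (hQ : IsPGroup 2 ↥Q) (n : ℕ) (hn2 : 2 ≤ n)
    (K : Type u) [Field K] [Fintype K] (hK : Fintype.card K = 2 ^ n)
    (e : G ⧸ Q ≃* Matrix.SpecialLinearGroup (Fin 2) K)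
    (x : G) (hx : orderOf x = 3) (hfpf : ∀ q ∈ Q, x * q * x⁻¹ = q → q = 1) :
    Cfsg.IsElementaryAbelian 2 Q ∧
      ∃ (k : ℕ) (V : Fin k → Subgroup G), (∀ i, V i ≤ Q ∧ (V i).Normal ∧
        Cfsg.ActsAsSL2OnSection K ⊤ ⊤ (V i) ⊥) ∧ iSupIndep V ∧ ⨆ i, V i = Q := by
  have hch : CharP K 2 := chr n (by omega) hK
  have hcard : Nat.card K = 2 ^ n := by rw [Nat.card_eq_fintype_card, hK]
  have h4 : 4 ≤ Nat.card K := by
    rw [hcard]
    calc 4 = 2 ^ 2 := by norm_num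
      _ ≤ 2 ^ n := Nat.pow_le_pow_right (by norm_num) hn2
  have h3 : 3 ≤ Nat.card K := by omega
  -- simplicity of `G ⧸ Q`
  have hsimK : IsSimpleGroup (SL2 K) := sim h4
  have hsim : IsSimpleGroup (G ⧸ Q) := e.isSimpleGroup
  -- all elements of order 3 are fixed-point-free
  have hall := afp Q hQ e (fun g h hg hh => cj3 g h hg hh) x hx hfpf
  -- an element `t ∉ Q` with `t² ∈ Q`
  obtain ⟨t, ht⟩ : ∃ t : G, e (QuotientGroup.mk t) = U (1 : K) := by
    obtain ⟨tq, htq⟩ := e.surjective (U (1 : K))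
    obtain ⟨t, rfl⟩ := QuotientGroup.mk_surjective tq
    exact ⟨t, htq⟩
  have hU1ne : (U (1 : K) : SL2 K) ≠ 1 := by
    intro h
    have := congrArg (fun g : SL2 K => g 0 1) h
    simp [U_coe] at this
  have htQ : t ∉ Q := by
    intro h
    apply hU1ne
    rw [← ht, (QuotientGroup.eq_one_iff t).2 h, map_one]
  have ht2 : t * t ∈ Q := by
    rw [← QuotientGroup.eq_one_iff]
    apply e.injective
    rw [QuotientGroup.mk_mul, map_mul, ht, map_one]
    exact U_sq 1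
  -- `Q` is abelian
  have hab := cmg Q hQ hall hsim x hx t htQ ht2
  letI : CommGroup ↥Q :=
    { (inferInstance : Group ↥Q) with mul_comm := fun a b => Subtype.ext (hab a a.2 b b.2) }
  obtain ⟨ρ, hρ⟩ := rep Q ↥Q (MulEquiv.refl _) e
  have hH : IsHig K ρ.asModule := hrp Q hQ ↥Q (MulEquiv.refl _) e hall ρ hρ
  have hfinQ : Finite (Additive ↥Q) := inferInstance
  have hfin : Finite ρ.asModule := hfinQ
  have hp : ∀ y : ρ.asModule, ∃ k : ℕ, (2 ^ k : ℕ) • y = 0 := by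
    intro y
    obtain ⟨k, hk⟩ := hQ (Additive.toMul (ρ.asModuleEquiv y))
    refine ⟨k, ?_⟩
    apply ρ.asModuleEquiv.injective
    rw [map_nsmul, map_zero]
    exact congrArg Additive.ofMul hk
  have hexp := exp2 h3 (Nat.card ρ.asModule) ρ.asModule le_rfl hp hH
  obtain ⟨k, ι, hι⟩ := coord2 h3 hexp hH
  refine ⟨⟨⟨⟨fun a b => Subtype.ext (hab a a.2 b b.2)⟩⟩, ?_⟩, k, ?_⟩
  · intro a ha
    have := hexp (ρ.asModuleEquiv.symm (Additive.ofMul (⟨a, ha⟩ : ↥Q)))
    rw [← map_add, ← map_zero ρ.asModuleEquiv.symm] at this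
    have h' := ρ.asModuleEquiv.symm.injective this
    have h'' : (⟨a, ha⟩ : ↥Q) * ⟨a, ha⟩ = 1 := congrArg Additive.toMul h'
    rw [pow_two]
    exact congrArg Subtype.val h''
  · refine fin Q ↥Q (MulEquiv.refl _) e k (ρ.asModuleEquiv.symm.toAddEquiv.trans ι) ?_
    intro g a i
    have h1 := hι (e (QuotientGroup.mk g)) (ρ.asModuleEquiv.symm (Additive.ofMul a)) i
    rw [act_asModule, LinearEquiv.apply_symm_apply, hρ g a] at h1
    exact h1

end Cfsg.Agent.Helper95.Hig
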