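import Cfsg.Agent.Helper95.Hig.Basic

set_option autoImplicit false

namespace Cfsg.Agent.Helper95.Hig

universe u w

variable {K : Type u} [Field K] {C : Type w} [AddCommGroup C]

theorem c0n_finset [Nontrivial C] (D : HData K C) (S : Finset K) :
    ∃ c : C, c ≠ 0 ∧ ∀ γ ∈ S, D.A γ c = 0 := by
  classical
  induction S using Finset.induction_on with
  | empty =>
    obtain ⟨c, hc⟩ := exists_ne (0 : C)
    exact ⟨c, hc, by simp⟩
  | insert δ S _ ih =>
    obtain ⟨c, hc, hS⟩ := ih
    by_cases h : D.A δ c = 0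
    · refine ⟨c, hc, ?_⟩
      intro γ hγ
      rcases Finset.mem_insert.1 hγ with rfl | hγ
      · exact h
      · exact hS γ hγ
    · refine ⟨D.A δ c, h, ?_⟩
      intro γ hγ
      rcases Finset.mem_insert.1 hγ with rfl | hγ
      · exact D.A_sq _ c
      · rw [D.A_comm, hS γ hγ, map_zero]

theorem c0n_aux [Finite K] [Nontrivial C] (D : HData K C) : ∃ c : C, c ≠ 0 ∧ ∀ γ, D.A γ c = 0 := by
  classical
  have := Fintype.ofFinite K
  obtain ⟨c, hc, h⟩ := c0n_finset D (Finset.univ : Finset K)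
  exact ⟨c, hc, fun γ => h γ (Finset.mem_univ γ)⟩

end Cfsg.Agent.Helper95.Hig
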