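import Mathlib
import Cfsg.Agent.Helper40.SL2Hom

/-!
Helper95, project HIG (statement S3050, G. Higman's theorem on `SL₂(2ⁿ)` acting on a 2-group with a
fixed-point-free element of order 3): basic definitions.

* `SL2 K`, `ZG K = ℤ[SL₂(K)]`, and for a `ZG K`-module `V` the additive map `act g : V →+ V`.
* `IsHig K V`: every element `τ` of order 3 satisfies `1 + τ + τ² = 0` on `V`.
* `Fix1 K V`: the fixed points of `U 1 = [[1,1],[0,1]]`.
* `HData K C`: the "Higman data" `A B : K → C →+ C` (block entries of the unipotent elements).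
* `Split K V`: a decomposition `V ≃+ Fix1 × Fix1` adapted to `S₃ = ⟨U 1, L 1⟩`.
-/

set_option autoImplicit false

namespace Cfsg.Agent.Helper95.Hig

open Cfsg.Agent.Helper40.SL2Hom

universe u v w

/-- `SL₂(K)` -/
abbrev SL2 (K : Type u) [Field K] := Matrix.SpecialLinearGroup (Fin 2) K

/-- the integral group ring of `SL₂(K)` -/
abbrev ZG (K : Type u) [Field K] := MonoidAlgebra ℤ (SL2 K)

section act
variable {K : Type u} [Field K] {V : Type v} [AddCommGroup V] [Module (ZG K) V]

/-- the additive endomorphism of `V` given by the group element `g` -/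
noncomputable def act (g : SL2 K) : V →+ V :=
  DistribSMul.toAddMonoidHom V (MonoidAlgebra.of ℤ (SL2 K) g)

theorem act_apply (g : SL2 K) (x : V) : act g x = MonoidAlgebra.of ℤ (SL2 K) g • x := rfl

theorem act_mul (g h : SL2 K) (x : V) : act (g * h) x = act g (act h x) := by
  simp only [act_apply, map_mul, mul_smul]

theorem act_one (x : V) : act (1 : SL2 K) x = x := by
  simp only [act_apply, map_one, one_smul]

theorem act_inv_act (g : SL2 K) (x : V) : act g⁻¹ (act g x) = x := by
  rw [← act_mul, inv_mul_cancel, act_one]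

theorem act_act_inv (g : SL2 K) (x : V) : act g (act g⁻¹ x) = x := by
  rw [← act_mul, mul_inv_cancel, act_one]

theorem act_injective (g : SL2 K) : Function.Injective (act g : V → V) := fun x y h => by
  have := congrArg (act g⁻¹) h
  rwa [act_inv_act, act_inv_act] at this

theorem act_mem (W : Submodule (ZG K) V) (g : SL2 K) {x : V} (hx : x ∈ W) : act g x ∈ W :=
  W.smul_mem _ hx

theorem act_mk (W : Submodule (ZG K) V) (g : SL2 K) (x : V) :
    act g (Submodule.Quotient.mk x : V ⧸ W) = Submodule.Quotient.mk (act g x) := rfl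

theorem act_coe (W : Submodule (ZG K) V) (g : SL2 K) (x : W) :
    ((act g x : W) : V) = act g (x : V) := rfl

/-- an additive subgroup stable under all group elements is a `ZG`-submodule -/
def submoduleOf (S : AddSubgroup V) (h : ∀ (g : SL2 K) (x : V), x ∈ S → act g x ∈ S) :
    Submodule (ZG K) V where
  carrier := S
  add_mem' := S.add_mem
  zero_mem' := S.zero_mem
  smul_mem' := by
    intro r x hx
    induction r using MonoidAlgebra.induction_on with
    | of g => exact h g x hx
    | add a b ha hb => rw [add_smul]; exact S.add_mem ha hb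
    | smul n a ha =>
      rw [smul_assoc]
      exact S.zsmul_mem ha n

theorem mem_submoduleOf (S : AddSubgroup V) (h : ∀ (g : SL2 K) (x : V), x ∈ S → act g x ∈ S)
    (x : V) : x ∈ submoduleOf S h ↔ x ∈ S := Iff.rfl

/-- the submodule `2V` -/
def twoV (K : Type u) [Field K] (V : Type v) [AddCommGroup V] [Module (ZG K) V] :
    Submodule (ZG K) V :=
  submoduleOf
    { carrier := {y | ∃ x : V, y = x + x}
      add_mem' := by
        rintro _ _ ⟨a, rfl⟩ ⟨b, rfl⟩
        exact ⟨a + b, by abel⟩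
      zero_mem' := ⟨0, by simp⟩
      neg_mem' := by
        rintro _ ⟨a, rfl⟩
        exact ⟨-a, by abel⟩ }
    (by
      rintro g _ ⟨a, rfl⟩
      exact ⟨act g a, by rw [map_add]⟩)

theorem mem_twoV (y : V) : y ∈ twoV K V ↔ ∃ x : V, y = x + x := Iff.rfl

end act

/-- **Higman's relation**: every element `τ` of order 3 of `SL₂(K)` satisfies `1 + τ + τ² = 0` on `V`
(for a finite 2-group `V` this says that `τ` acts fixed-point-freely). -/
def IsHig (K : Type u) [Field K] (V : Type v) [AddCommGroup V] [Module (ZG K) V] : Prop :=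
  ∀ τ : SL2 K, orderOf τ = 3 → ∀ x : V, x + act τ x + act τ (act τ x) = 0

section hig
variable {K : Type u} [Field K] {V : Type v} [AddCommGroup V] [Module (ZG K) V]

theorem IsHig.sub (h : IsHig K V) (W : Submodule (ZG K) V) : IsHig K W := by
  intro τ hτ x
  apply Subtype.ext
  simpa [act_coe] using h τ hτ (x : V)

theorem IsHig.quot (h : IsHig K V) (W : Submodule (ZG K) V) : IsHig K (V ⧸ W) := by
  intro τ hτ x
  induction x using Submodule.Quotient.induction_on with
  | H x =>
    rw [act_mk, act_mk, ← Submodule.Quotient.mk_add, ← Submodule.Quotient.mk_add, h τ hτ x,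
      Submodule.Quotient.mk_zero]

/-- the fixed points of `U 1 = [[1,1],[0,1]]` -/
def Fix1 (K : Type u) [Field K] (V : Type v) [AddCommGroup V] [Module (ZG K) V] : AddSubgroup V where
  carrier := {x | act (U (1 : K)) x = x}
  add_mem' := by
    intro a b ha hb
    simp only [Set.mem_ofPred_eq] at *
    rw [map_add, ha, hb]
  zero_mem' := by simp
  neg_mem' := by
    intro a ha
    simp only [Set.mem_ofPred_eq] at *
    rw [map_neg, ha]

theorem mem_Fix1 (x : V) : x ∈ Fix1 K V ↔ act (U (1 : K)) x = x := Iff.rfl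

end hig

/-- **Higman data** on an abelian group `C`: the block entries `A γ`, `B γ` of the unipotent element
`U γ` (in the model `V = C × C`, `U γ (c, d) = (c + A γ c + B γ d, d + A γ d)`), with the relations that
come from the group relations of `SL₂(K)` (`char K = 2`) and from Higman's relation. -/
structure HData (K : Type u) [Field K] (C : Type w) [AddCommGroup C] where
  A : K → C →+ C
  B : K → C →+ C
  A_zero : ∀ c, A 0 c = 0
  B_zero : ∀ c, B 0 c = 0
  A_one : ∀ c, A 1 c = 0
  B_one : ∀ c, B 1 c = c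
  A_comm : ∀ γ δ c, A γ (A δ c) = A δ (A γ c)
  A_add : ∀ γ δ c, A (γ + δ) c = A γ c + A δ c + A γ (A δ c)
  B_add : ∀ γ δ c, B (γ + δ) c = B γ c + B δ c + A γ (B δ c) + B γ (A δ c)
  A_sq : ∀ γ c, A γ (A γ c) = 0
  AB_comm : ∀ γ c, A γ (B γ c) = B γ (A γ c)
  B_inv : ∀ γ, γ ≠ 0 → ∀ c, B γ (B γ⁻¹ c) = c
  rel21 : ∀ γ δ, γ ≠ 0 → ∀ c,
    B γ⁻¹ (A δ (A γ c + A γ⁻¹ c)) + B γ⁻¹ (B δ (B γ⁻¹ c))
      + (A γ (A δ (B γ⁻¹ c)) + A γ⁻¹ (A δ (B γ⁻¹ c))) = B (δ / γ ^ 2) c
  rel22 : ∀ γ δ, γ ≠ 0 → ∀ c,
    B γ⁻¹ (A δ (B γ c)) + B γ⁻¹ (B δ (A γ c + A γ⁻¹ c))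
      + (A γ (A δ (A γ c + A γ⁻¹ c)) + A γ⁻¹ (A δ (A γ c + A γ⁻¹ c))) = A (δ / γ ^ 2) c

section split
variable (K : Type u) [Field K] (V : Type v) [AddCommGroup V] [Module (ZG K) V]

/-- A decomposition `V = C ⊕ W·C`, `C = Fix1`, adapted to `S₃ = ⟨U 1, L 1⟩ ∋ W`:
`W` swaps the two summands and `U 1 (c, d) = (c - d, -d)`. -/
structure Split where
  φ : V ≃+ (Fix1 K V × Fix1 K V)
  hfix : ∀ c : Fix1 K V, φ (c : V) = (c, 0)
  hW : ∀ c d : Fix1 K V, φ (act (W : SL2 K) (φ.symm (c, d))) = (d, c)
  hU1 : ∀ c d : Fix1 K V, φ (act (U (1 : K)) (φ.symm (c, d))) = (c - d, -d)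

variable {K V}

/-- first block of `U γ` on the first summand -/
noncomputable def Split.Ap (s : Split K V) (γ : K) : Fix1 K V →+ Fix1 K V :=
  (AddMonoidHom.fst _ _).comp (s.φ.toAddMonoidHom.comp ((act (U γ)).comp (Fix1 K V).subtype))

/-- the off-diagonal block of `U γ` -/
noncomputable def Split.Bt (s : Split K V) (γ : K) : Fix1 K V →+ Fix1 K V :=
  (AddMonoidHom.fst _ _).comp
    (s.φ.toAddMonoidHom.comp ((act (U γ)).comp ((act (W : SL2 K)).comp (Fix1 K V).subtype)))

/-- the second diagonal block of `U γ` -/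
noncomputable def Split.Dt (s : Split K V) (γ : K) : Fix1 K V →+ Fix1 K V :=
  (AddMonoidHom.snd _ _).comp
    (s.φ.toAddMonoidHom.comp ((act (U γ)).comp ((act (W : SL2 K)).comp (Fix1 K V).subtype)))

theorem Split.Ap_apply (s : Split K V) (γ : K) (c : Fix1 K V) :
    s.Ap γ c = (s.φ (act (U γ) (c : V))).1 := rfl

theorem Split.Bt_apply (s : Split K V) (γ : K) (c : Fix1 K V) :
    s.Bt γ c = (s.φ (act (U γ) (act (W : SL2 K) (c : V)))).1 := rfl

theorem Split.Dt_apply (s : Split K V) (γ : K) (c : Fix1 K V) :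
    s.Dt γ c = (s.φ (act (U γ) (act (W : SL2 K) (c : V)))).2 := rfl

end split


section model
variable (K : Type u) [Field K] (V : Type v) [AddCommGroup V] [Module (ZG K) V]
  (C : Type w) [AddCommGroup C]

/-- A characteristic-2 **model** of `V`: `V ≃+ C × C` in which `U γ` acts by the blocks
`[[1 + A γ, B γ], [0, 1 + A γ]]`, `W` swaps the two coordinates and `U 1 (c, d) = (c + d, d)`. -/
structure Model where
  φ : V ≃+ (C × C)
  A : K → C →+ C
  B : K → C →+ C
  hU : ∀ (γ : K) (c d : C), φ (act (U γ) (φ.symm (c, d))) = (c + A γ c + B γ d, d + A γ d)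
  hW : ∀ c d : C, φ (act (W : SL2 K) (φ.symm (c, d))) = (d, c)
  hU1 : ∀ c d : C, φ (act (U (1 : K)) (φ.symm (c, d))) = (c + d, d)

end model

section splitlemmas
variable {K : Type u} [Field K] {V : Type v} [AddCommGroup V] [Module (ZG K) V]

theorem Split.symm_fst (s : Split K V) (c : Fix1 K V) : s.φ.symm (c, 0) = (c : V) := by
  rw [← s.hfix c, AddEquiv.symm_apply_apply]

theorem Split.symm_snd (s : Split K V) (d : Fix1 K V) :
    s.φ.symm (0, d) = act (W : SL2 K) (d : V) := by
  apply s.φ.injective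
  rw [AddEquiv.apply_symm_apply, ← s.symm_fst d, s.hW]

theorem Split.symm_eq (s : Split K V) (c d : Fix1 K V) :
    s.φ.symm (c, d) = (c : V) + act (W : SL2 K) (d : V) := by
  have : ((c, d) : Fix1 K V × Fix1 K V) = (c, 0) + (0, d) := by simp
  rw [this, map_add, s.symm_fst, s.symm_snd]

theorem Split.apply_add (s : Split K V) (c d : Fix1 K V) :
    s.φ ((c : V) + act (W : SL2 K) (d : V)) = (c, d) := by
  rw [← s.symm_eq, AddEquiv.apply_symm_apply]

end splitlemmas


theorem act_asModule {K : Type u} [Field K] {A : Type v} [AddCommGroup A]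
    (ρ : Representation ℤ (SL2 K) A) (g : SL2 K) (x : ρ.asModule) :
    act g x = ρ.asModuleEquiv.symm (ρ g (ρ.asModuleEquiv x)) := by
  rw [act_apply, Representation.asModuleEquiv_symm_map_rho, LinearEquiv.symm_apply_apply]


/-- the commutator `a * b * a⁻¹ * b⁻¹` (written out, to avoid the scoped bracket notation) -/
def cm {G : Type*} [Group G] (a b : G) : G := a * b * a⁻¹ * b⁻¹

theorem cm_def {G : Type*} [Group G] (a b : G) : cm a b = a * b * a⁻¹ * b⁻¹ := rfl

end Cfsg.Agent.Helper95.Hig
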