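import Cfsg.Agent.Helper95.Hig.Basic

set_option autoImplicit false

namespace Cfsg.Agent.Helper95.Hig

universe u w

variable {K : Type u} [Field K] {C : Type w} [AddCommGroup C]

/-- restriction of the Higman data to an invariant subgroup -/
noncomputable def HData.subData (D : HData K C) (C₀ : AddSubgroup C)
    (hA : ∀ γ c, c ∈ C₀ → D.A γ c ∈ C₀) (hB : ∀ γ c, c ∈ C₀ → D.B γ c ∈ C₀) : HData K C₀ where
  A γ := AddMonoidHom.codRestrict ((D.A γ).comp C₀.subtype) C₀ (fun c => hA γ c c.2)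
  B γ := AddMonoidHom.codRestrict ((D.B γ).comp C₀.subtype) C₀ (fun c => hB γ c c.2)
  A_zero c := Subtype.ext (D.A_zero c)
  B_zero c := Subtype.ext (D.B_zero c)
  A_one c := Subtype.ext (D.A_one c)
  B_one c := Subtype.ext (D.B_one c)
  A_comm γ δ c := Subtype.ext (D.A_comm γ δ c)
  A_add γ δ c := Subtype.ext (D.A_add γ δ c)
  B_add γ δ c := Subtype.ext (D.B_add γ δ c)
  A_sq γ c := Subtype.ext (D.A_sq γ c)
  AB_comm γ c := Subtype.ext (D.AB_comm γ c)
  B_inv γ hγ c := Subtype.ext (D.B_inv γ hγ c)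
  rel21 γ δ hγ c := Subtype.ext (D.rel21 γ δ hγ c)
  rel22 γ δ hγ c := Subtype.ext (D.rel22 γ δ hγ c)

/-- the Higman data on the quotient by an invariant subgroup -/
noncomputable def HData.quotData (D : HData K C) (C₀ : AddSubgroup C)
    (hA : ∀ γ c, c ∈ C₀ → D.A γ c ∈ C₀) (hB : ∀ γ c, c ∈ C₀ → D.B γ c ∈ C₀) : HData K (C ⧸ C₀) where
  A γ := QuotientAddGroup.map C₀ C₀ (D.A γ) (fun c hc => hA γ c hc)
  B γ := QuotientAddGroup.map C₀ C₀ (D.B γ) (fun c hc => hB γ c hc)
  A_zero c := by
    induction c using QuotientAddGroup.induction_on with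
    | H c => exact congrArg (QuotientAddGroup.mk : C → C ⧸ C₀) (D.A_zero c)
  B_zero c := by
    induction c using QuotientAddGroup.induction_on with
    | H c => exact congrArg (QuotientAddGroup.mk : C → C ⧸ C₀) (D.B_zero c)
  A_one c := by
    induction c using QuotientAddGroup.induction_on with
    | H c => exact congrArg (QuotientAddGroup.mk : C → C ⧸ C₀) (D.A_one c)
  B_one c := by
    induction c using QuotientAddGroup.induction_on with
    | H c => exact congrArg (QuotientAddGroup.mk : C → C ⧸ C₀) (D.B_one c)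
  A_comm γ δ c := by
    induction c using QuotientAddGroup.induction_on with
    | H c => exact congrArg (QuotientAddGroup.mk : C → C ⧸ C₀) (D.A_comm γ δ c)
  A_add γ δ c := by
    induction c using QuotientAddGroup.induction_on with
    | H c => exact congrArg (QuotientAddGroup.mk : C → C ⧸ C₀) (D.A_add γ δ c)
  B_add γ δ c := by
    induction c using QuotientAddGroup.induction_on with
    | H c => exact congrArg (QuotientAddGroup.mk : C → C ⧸ C₀) (D.B_add γ δ c)
  A_sq γ c := by
    induction c using QuotientAddGroup.induction_on with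
    | H c => exact congrArg (QuotientAddGroup.mk : C → C ⧸ C₀) (D.A_sq γ c)
  AB_comm γ c := by
    induction c using QuotientAddGroup.induction_on with
    | H c => exact congrArg (QuotientAddGroup.mk : C → C ⧸ C₀) (D.AB_comm γ c)
  B_inv γ hγ c := by
    induction c using QuotientAddGroup.induction_on with
    | H c => exact congrArg (QuotientAddGroup.mk : C → C ⧸ C₀) (D.B_inv γ hγ c)
  rel21 γ δ hγ c := by
    induction c using QuotientAddGroup.induction_on with
    | H c => exact congrArg (QuotientAddGroup.mk : C → C ⧸ C₀) (D.rel21 γ δ hγ c)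
  rel22 γ δ hγ c := by
    induction c using QuotientAddGroup.induction_on with
    | H c => exact congrArg (QuotientAddGroup.mk : C → C ⧸ C₀) (D.rel22 γ δ hγ c)

theorem hsq_aux (D : HData K C) (C₀ : AddSubgroup C)
    (hA : ∀ γ c, c ∈ C₀ → D.A γ c ∈ C₀) (hB : ∀ γ c, c ∈ C₀ → D.B γ c ∈ C₀) :
    (∃ D' : HData K C₀, ∀ (γ : K) (c : C₀),
      ((D'.A γ c : C₀) : C) = D.A γ c ∧ ((D'.B γ c : C₀) : C) = D.B γ c) ∧
    (∃ D' : HData K (C ⧸ C₀), ∀ (γ : K) (c : C),
      D'.A γ (QuotientAddGroup.mk c) = QuotientAddGroup.mk (D.A γ c) ∧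
      D'.B γ (QuotientAddGroup.mk c) = QuotientAddGroup.mk (D.B γ c)) :=
  ⟨⟨D.subData C₀ hA hB, fun _ _ => ⟨rfl, rfl⟩⟩, ⟨D.quotData C₀ hA hB, fun _ _ => ⟨rfl, rfl⟩⟩⟩

end Cfsg.Agent.Helper95.Hig
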