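import Cfsg.Agent.Helper95.Hig.Basic
import Cfsg.Agent.Helper95.Hig.HSQ
import Cfsg.Agent.Helper95.Hig.C0N
import Cfsg.Agent.Helper81.HIG_C0I
import Cfsg.Agent.Helper64.HIG_RNG
import Cfsg.Agent.Helper57.HIG_LML
import Cfsg.Agent.Helper89.HIG_ST2

set_option autoImplicit false

namespace Cfsg.Agent.Helper95.Hig

universe u w

variable {K : Type u} [Field K] {C : Type w} [AddCommGroup C]

/-! ## (HSQ) sub- and quotient data -/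

/-- (HSQ) restrict / push down all maps (`AddMonoidHom.restrict`/`codRestrict`, `QuotientAddGroup.map`);
every axiom is an identity between elements, checked on representatives. -/
theorem hsq (D : HData K C) (C₀ : AddSubgroup C)
    (hA : ∀ γ c, c ∈ C₀ → D.A γ c ∈ C₀) (hB : ∀ γ c, c ∈ C₀ → D.B γ c ∈ C₀) :
    (∃ D' : HData K C₀, ∀ (γ : K) (c : C₀),
      ((D'.A γ c : C₀) : C) = D.A γ c ∧ ((D'.B γ c : C₀) : C) = D.B γ c) ∧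
    (∃ D' : HData K (C ⧸ C₀), ∀ (γ : K) (c : C),
      D'.A γ (QuotientAddGroup.mk c) = QuotientAddGroup.mk (D.A γ c) ∧
      D'.B γ (QuotientAddGroup.mk c) = QuotientAddGroup.mk (D.B γ c)) := by
  exact hsq_aux D C₀ hA hB

/-! ## (C0N) the common kernel of the `A γ` is nonzero -/

/-- (C0N) the `A γ` commute and `A γ ∘ A γ = 0`. Induction over a `Finset` of `γ`'s: if
`X = ⋂_{γ ∈ S} ker A γ ≠ 0` pick `0 ≠ x ∈ X`; if `A δ x = 0` fine, otherwise `A δ x ≠ 0` lies in `X`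
(commutation) and is killed by `A δ`. -/
theorem c0n [Finite K] [Nontrivial C] (D : HData K C) : ∃ c : C, c ≠ 0 ∧ ∀ γ, D.A γ c = 0 := by
  exact c0n_aux D

/-! ## (C0I) the common kernel is `B`-invariant -/

/-- (C0I) `δ = 0`: `B 0 = 0`. `δ ≠ 0`: use `rel22` with its `γ := δ` and its `δ := γ` evaluated at `c`:
all terms containing `A _ c` vanish (`hc`, `map_zero`), leaving `B δ⁻¹ (A γ (B δ c)) = A (γ / δ ^ 2) c = 0`;
apply `B δ` and `B_inv` (for `δ`: `B δ (B δ⁻¹ y) = y`). -/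
theorem c0i (D : HData K C) (c : C) (hc : ∀ γ, D.A γ c = 0) (δ γ : K) : D.A γ (D.B δ c) = 0 := by
  exact Cfsg.Agent.Helper81.Hig.c0i D c hc δ γ

/-! ## (RNG) `A = 0` implies that `B` is a ring homomorphism -/

/-- (RNG) With `A = 0`: `B` is additive (`B_add`), `B 1 = id`, and `rel21` reads
`B γ⁻¹ ∘ B δ ∘ B γ⁻¹ = B (δ / γ ^ 2)`, i.e. `B μ ∘ B δ ∘ B μ = B (μ ^ 2 * δ)` for all `μ` (`μ = 0` trivial).
`δ = 1`: `B μ ∘ B μ = B (μ ^ 2)`. Polarise (`(μ+ν)² = μ² + ν²` in char 2): `B μ ∘ B ν = B ν ∘ B μ`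
(`h2`). Then `B (μ² δ) = B μ ∘ B μ ∘ B δ = B (μ²) ∘ B δ`, and every element of the finite field `K`
of characteristic 2 is a square. -/
theorem rng [Finite K] [CharP K 2] (h2 : ∀ c : C, c + c = 0) (D : HData K C)
    (hA : ∀ γ c, D.A γ c = 0) : ∃ R : K →+* AddMonoid.End C, ∀ γ c, R γ c = D.B γ c := by
  exact Cfsg.Agent.Helper64.Hig.rng h2 D hA

/-! ## (LML) the key lemma -/

/-- (LML) Let `X γ := A γ` (maps `C → C₀`, zero on `C₀`).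
(1) `A (γ+δ) = A γ + A δ` (`A_add`, `h1`, `h0`).
(2) `A γ ∘ B γ = B γ ∘ A γ` (`AB_comm`).
(3) polarising (2) with (1), `B_add` (extra terms vanish by `h1 h0 hB A_sq`):
    `A γ ∘ B δ + A δ ∘ B γ = B γ ∘ A δ + B δ ∘ A γ`.
(4) For `X : C → C₀` zero on `C₀` put `𝔇_δ X := X ∘ B δ + B δ ∘ X`. The `𝔇_δ` commute (`hmul0 hmul1`),
    `𝔇_δ (𝔇_δ X) = 𝔇_{δ²} X`, (3) says `𝔇_δ (A γ) = 𝔇_γ (A δ)`, (2) says `𝔇_γ (A γ) = 0`. Hence
    `𝔇_{δ²} (A γ) = 𝔇_δ 𝔇_γ (A δ) = 𝔇_γ 𝔇_δ (A δ) = 0`; all elements of `K` are squares, so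
    `A γ ∘ B μ = B μ ∘ A γ` for all `γ μ`.
(5) `rel22` now reads `A δ + B (δ/γ) ∘ (A γ + A γ⁻¹) = A (δ/γ²)`. With `δ = 1`:
    `B γ⁻¹ ∘ (A γ + A γ⁻¹) = A (γ⁻²)`; so `A δ + B δ ∘ A ν = A (δ ν)` for all `δ` and `ν ≠ 0`
    (`ν = γ⁻²` is arbitrary). By symmetry `(1 + B ν) ∘ A δ = (1 + B δ) ∘ A ν` for `δ, ν ≠ 0`.
(6) Fix `ν₀ ∉ {0,1}`, `M := B (1+ν₀)⁻¹ ∘ A ν₀`; then `A δ = B (1+δ) ∘ M` for `δ ≠ 0`. Taking
    `δ₁ ≠ δ₂` both nonzero and (1): `B (1+δ₁+δ₂) M = B (δ₁+δ₂) M`, so `M = B 1 ∘ M = 0`. -/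
theorem lml [Finite K] [CharP K 2] (hK : 3 ≤ Nat.card K) (h2 : ∀ c : C, c + c = 0) (D : HData K C)
    (C₀ : AddSubgroup C)
    (h1 : ∀ γ c, D.A γ c ∈ C₀) (h0 : ∀ γ c, c ∈ C₀ → D.A γ c = 0)
    (hB : ∀ γ c, c ∈ C₀ → D.B γ c ∈ C₀)
    (hmul0 : ∀ γ δ c, c ∈ C₀ → D.B γ (D.B δ c) = D.B (γ * δ) c)
    (hmul1 : ∀ γ δ c, D.B γ (D.B δ c) - D.B (γ * δ) c ∈ C₀) :
    ∀ γ c, D.A γ c = 0 := by
  exact Cfsg.Agent.Helper57.Hig.lml hK h2 D C₀ h1 h0 hB hmul0 hmul1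

/-! ## (ST2) all `A γ` vanish (second wave: uses (HSQ) (C0N) (C0I) (RNG) (LML)) -/

/-- (ST2) strong induction on `Nat.card C`. `C₀ := {c | ∀ γ, A γ c = 0}` is nonzero (C0N),
`A`- and `B`-invariant (C0I). The quotient data on `C ⧸ C₀` (HSQ) has `A = 0` by induction, i.e.
`A γ c ∈ C₀`; (RNG) for the data on `C₀` and on `C ⧸ C₀` gives `hmul0`, `hmul1`; conclude by (LML). -/
theorem st2 [Finite K] [CharP K 2] (hK : 3 ≤ Nat.card K) [Finite C] (h2 : ∀ c : C, c + c = 0)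
    (D : HData K C) : ∀ γ c, D.A γ c = 0 := by
  exact Cfsg.Agent.Helper89.Hig.st2_of hK (fun D C₀ hA hB => hsq D C₀ hA hB) (fun D => c0n D)
    (fun D c hc δ γ => c0i D c hc δ γ) (fun h2 D hA => rng h2 D hA)
    (fun h2 D C₀ h1 h0 hB hmul0 hmul1 => lml hK h2 D C₀ h1 h0 hB hmul0 hmul1) h2 D

end Cfsg.Agent.Helper95.Hig
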