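import Cfsg.Agent.Helper95.Hig.Basic
import Cfsg.Agent.Helper75.HIG_MAT
import Cfsg.Agent.Helper48.HIG_CRD
import Cfsg.Agent.Helper57.HIG_ECO
import Cfsg.Agent.Helper48.HIG_EBR

set_option autoImplicit false

namespace Cfsg.Agent.Helper95.Hig

open Cfsg.Agent.Helper40.SL2Hom

universe u v w

variable {K : Type u} [Field K] [CharP K 2] {V : Type v} [AddCommGroup V] [Module (ZG K) V]

/-! ## (MAT) the matrix action -/

/-- (MAT) `P g :⇔ ∀ c d, φ (g (c,d)) = (R(g₀₀) c + R(g₀₁) d, R(g₁₀) c + R(g₁₁) d)`.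
`P (U γ)` by `Model.hU` (`A = 0`, `R 1 = 1`, `R 0 = 0`); `P W` by `Model.hW` (`W = [[0,1],[-1,0]]`,
`-1 = 1`); `P` is closed under products (`R` ring hom, matrix multiplication) and `P 1`. All `U γ` and `W`
are involutions (SLA), so the monoid generated by them is the group generated by them, which is
`⊤` by `Cfsg.Agent.Helper40.SL2Hom.closure_U_W`. -/
theorem mat {C : Type w} [AddCommGroup C] (m : Model K V C) (h2 : ∀ c : C, c + c = 0)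
    (hA : ∀ γ c, m.A γ c = 0) (R : K →+* AddMonoid.End C) (hR : ∀ γ c, R γ c = m.B γ c) :
    ∀ (g : SL2 K) (c d : C), m.φ (act g (m.φ.symm (c, d))) =
      (R (g 0 0) c + R (g 0 1) d, R (g 1 0) c + R (g 1 1) d) := by
  exact Cfsg.Agent.Helper75.Hig.mat m h2 hA R hR

/-! ## (CRD) coordinates -/

/-- (CRD) `C` is a `K`-vector space through `R` (`Module.compHom C R`), finite, hence has a finite basis
`b : Basis (Fin k) K C`. Put `ι x i := ![b.repr (φ x).1 i, b.repr (φ x).2 i]`. -/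
theorem crd {C : Type w} [AddCommGroup C] [Finite C] (φ : V ≃+ (C × C)) (R : K →+* AddMonoid.End C)
    (h : ∀ (g : SL2 K) (c d : C), φ (act g (φ.symm (c, d))) =
      (R (g 0 0) c + R (g 0 1) d, R (g 1 0) c + R (g 1 1) d)) :
    ∃ (k : ℕ) (ι : V ≃+ (Fin k → Fin 2 → K)), ∀ (g : SL2 K) (x : V) (i : Fin k),
      ι (act g x) i = (g : Matrix (Fin 2) (Fin 2) K).mulVec (ι x i) := by
  exact Cfsg.Agent.Helper48.Hig.crd φ R h

/-! ## (ECO) the core of the exponent argument -/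

/-- (ECO) `N := Ap - 1`. `z3`: `2N + N² = 0`; `h1`: `N c ∈ 2C`, so `N² = 0` (`4C = 0`) and `2N = 0`.
`z1 z2`: `Ap β + β Ap + 2β² = 0`, hence `N β = β N + 2h` with `h := β + β²` (use `2 β N = 0`, `4 = 0`).
Induction: `N βʲ = βʲ N + 2 j βʲ⁻¹ h`. For `j = k` even, `4 ∣ 2k`: `N βᵏ = βᵏ N`.
By `h2a`, `βᵏ c = β c + 2 c₁`: `N βᵏ c = N β c` (`2N = 0`) and `βᵏ N c = β N c`
(`N c = 2 c₃`, `βᵏ (2c₃) = 2 β c₃ + 4 c₄`). So `2 h c = N β c - β N c = 0` for all `c`; by `h2b`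
`2c = 2 h c' + 4 c₁ = 0`. -/
theorem eco {C : Type w} [AddCommGroup C] (h4 : ∀ c : C, (4 : ℕ) • c = 0) (Ap Bt Dt : C →+ C)
    (z1 : ∀ c, Bt c + Bt c = Dt c - Ap c) (z2 : ∀ c, Ap (Bt c) + Bt (Dt c) = 0)
    (z3 : ∀ c, Ap (Ap c) = c)
    (h1 : ∀ c, ∃ c₁, Ap c - c = c₁ + c₁)
    (k : ℕ) (hk : 2 ∣ k) (h2a : ∀ c, ∃ c₁, (Bt^[k]) c - Bt c = c₁ + c₁)
    (h2b : ∀ c, ∃ c' c₁, c = Bt c' + Bt (Bt c') + (c₁ + c₁)) : ∀ c : C, c + c = 0 := by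
  exact Cfsg.Agent.Helper57.Hig.eco h4 Ap Bt Dt z1 z2 z3 h1 k hk h2a h2b

/-! ## (EBR) the bridge from `V ⧸ 2V` -/

/-- (EBR) Let `π : V → V ⧸ 2V`. `π` maps `Fix1 V` into `Fix1 (V ⧸ 2V)`, and by uniqueness of the
decompositions `sq.φ (π x) = (π (s.φ x).1, π (s.φ x).2)`. Also `Fix1 V ∩ 2V = 2 Fix1 V`
(decompose `x` with `2x = c`). Hence:
* `hq1` (`U 1`-fixed ⇒ `U γ`-fixed in the quotient) gives `Ap γ c - c ∈ Fix1 ∩ 2V = 2 Fix1`;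
* `hq2` with `g = U γ`: `π (Bt γ c) = R γ (π c)`; so `π (Bt γ ^[k] c) = R γ ^ k (π c) = R (γ ^ k) (π c)
  = R γ (π c)` for `k = Nat.card K`, which gives `h2a`;
* `R γ + R γ ^ 2 = R (γ + γ ^ 2)` is invertible (`γ ≠ 0, 1`) and every element of `Fix1 (V ⧸ 2V)` is
  `π c` (decompose a preimage `x`: `U 1 x - x = -d + W(-2d) ∈ 2V` forces `d ∈ 2 Fix1`), which gives `h2b`. -/
theorem ebr [Finite K] [Finite V] (h4 : ∀ x : V, (4 : ℕ) • x = 0) (s : Split K V)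
    (sq : Split K (V ⧸ twoV K V))
    (hq1 : ∀ x : V ⧸ twoV K V, act (U (1 : K)) x = x → ∀ γ : K, act (U γ) x = x)
    (R : K →+* AddMonoid.End (Fix1 K (V ⧸ twoV K V)))
    (hq2 : ∀ (g : SL2 K) (c d : Fix1 K (V ⧸ twoV K V)), sq.φ (act g (sq.φ.symm (c, d))) =
      (R (g 0 0) c + R (g 0 1) d, R (g 1 0) c + R (g 1 1) d))
    (γ : K) (hγ0 : γ ≠ 0) (hγ1 : γ ≠ 1) :
    (∀ c : Fix1 K V, ∃ c₁, s.Ap γ c - c = c₁ + c₁) ∧
    (∀ c : Fix1 K V, ∃ c₁, ((s.Bt γ)^[Nat.card K]) c - s.Bt γ c = c₁ + c₁) ∧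
    (∀ c : Fix1 K V, ∃ c' c₁, c = s.Bt γ c' + s.Bt γ (s.Bt γ c') + (c₁ + c₁)) := by
  exact Cfsg.Agent.Helper48.Hig.ebr h4 s sq hq1 R hq2 γ hγ0 hγ1

end Cfsg.Agent.Helper95.Hig
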