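import Cfsg.Agent.Helper95.Hig.Basic
import Cfsg.Agent.Helper81.HIG_TWO
import Cfsg.Agent.Helper81.HIG_TWOB

set_option autoImplicit false

namespace Cfsg.Agent.Helper95.Hig

open Cfsg.Agent.Helper40.SL2Hom

universe u v w

variable {K : Type u} [Field K] {V : Type v} [AddCommGroup V] [Module (ZG K) V]

/-! ## (TWO) small facts -/

/-- (TWO) (a) multiplication by 2 on a nontrivial finite 2-group is not surjective (it is not injective:
there is an element of order 2), so `2V` is smaller. (b) a finite field of characteristic 2 has even order.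
(c) a field with at least 3 elements has an element `≠ 0, 1`. -/
theorem two [Finite V] [Nontrivial V] (hp : ∀ x : V, ∃ k : ℕ, (2 ^ k : ℕ) • x = 0) :
    Nat.card (twoV K V) < Nat.card V := by
  exact Cfsg.Agent.Helper81.Hig.two hp

theorem twob [Finite K] [CharP K 2] : 2 ∣ Nat.card K ∧ (3 ≤ Nat.card K → ∃ γ : K, γ ≠ 0 ∧ γ ≠ 1) := by
  exact Cfsg.Agent.Helper81.Hig.twob

end Cfsg.Agent.Helper95.Hig
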