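import Cfsg.Agent.Helper95.Hig.Pieces1
import Cfsg.Agent.Helper95.Hig.Pieces2
import Cfsg.Agent.Helper95.Hig.Pieces3
import Cfsg.Agent.Helper95.Hig.Pieces4

set_option autoImplicit false

namespace Cfsg.Agent.Helper95.Hig

open Cfsg.Agent.Helper40.SL2Hom

universe u v w

variable {K : Type u} [Field K] [CharP K 2] {V : Type v} [AddCommGroup V] [Module (ZG K) V]

/-- the Higman data of a model -/
noncomputable def Model.toHData {C : Type w} [AddCommGroup C] (m : Model K V C)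
    (h2 : ∀ c : C, c + c = 0) (hH : IsHig K V) : HData K C where
  A := m.A
  B := m.B
  A_zero := (hd1 h2 m).1
  B_zero := (hd1 h2 m).2.1
  A_one := (hd1 h2 m).2.2.1
  B_one := (hd1 h2 m).2.2.2.1
  A_comm := (hd1 h2 m).2.2.2.2.1
  A_add := (hd1 h2 m).2.2.2.2.2.1
  B_add := (hd1 h2 m).2.2.2.2.2.2.1
  A_sq := (hd1 h2 m).2.2.2.2.2.2.2.1
  AB_comm := (hd1 h2 m).2.2.2.2.2.2.2.2
  B_inv := fun γ hγ c => hd3 h2 hH m γ hγ c
  rel21 := fun γ δ hγ c => (hd5 h2 hH m γ δ hγ c).1
  rel22 := fun γ δ hγ c => (hd5 h2 hH m γ δ hγ c).2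

/-- **Structure of the modules of exponent 2.** -/
theorem struct2 [Finite K] (hK : 3 ≤ Nat.card K) [Finite V] (h2 : ∀ x : V, x + x = 0)
    (hH : IsHig K V) :
    ∃ (s : Split K V) (R : K →+* AddMonoid.End (Fix1 K V)),
      (∀ x : V, act (U (1 : K)) x = x → ∀ γ : K, act (U γ) x = x) ∧
      ∀ (g : SL2 K) (c d : Fix1 K V), s.φ (act g (s.φ.symm (c, d))) =
        (R (g 0 0) c + R (g 0 1) d, R (g 1 0) c + R (g 1 1) d) := by
  have hp : ∀ x : V, ∃ k : ℕ, (2 ^ k : ℕ) • x = 0 := fun x => ⟨1, by simpa [two_nsmul] using h2 x⟩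
  obtain ⟨s⟩ := exists_split hp hH
  obtain ⟨m, hm⟩ := exists_model h2 s
  have h2C : ∀ c : Fix1 K V, c + c = 0 := fun c => Subtype.ext (by simpa using h2 (c : V))
  have hA := st2 hK h2C (m.toHData h2C hH)
  obtain ⟨R, hR⟩ := rng h2C (m.toHData h2C hH) hA
  have hmat := mat m h2C hA R hR
  refine ⟨s, R, ?_, ?_⟩
  · intro x hx γ
    have hxs : s.φ.symm ((⟨x, hx⟩ : Fix1 K V), 0) = x := s.symm_fst ⟨x, hx⟩
    have h := m.hU γ (⟨x, hx⟩ : Fix1 K V) 0
    rw [hm, hxs] at h
    have hA' : m.A γ ⟨x, hx⟩ = 0 := hA γ _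
    rw [hA', map_zero, map_zero, add_zero, add_zero, add_zero] at h
    have := congrArg s.φ.symm h
    rw [AddEquiv.symm_apply_apply, hxs] at this
    exact this
  · intro g c d
    have := hmat g c d
    rwa [hm] at this

/-- **Coordinates.** -/
theorem coord2 [Finite K] (hK : 3 ≤ Nat.card K) [Finite V] (h2 : ∀ x : V, x + x = 0)
    (hH : IsHig K V) :
    ∃ (k : ℕ) (ι : V ≃+ (Fin k → Fin 2 → K)), ∀ (g : SL2 K) (x : V) (i : Fin k),
      ι (act g x) i = (g : Matrix (Fin 2) (Fin 2) K).mulVec (ι x i) := by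
  obtain ⟨s, R, -, h⟩ := struct2 hK h2 hH
  exact crd s.φ R h

/-- **Exponent 2.** -/
theorem exp2 [Finite K] (hK : 3 ≤ Nat.card K) :
    ∀ (n : ℕ) (V : Type v) [AddCommGroup V] [Module (ZG K) V] [Finite V], Nat.card V ≤ n →
      (∀ x : V, ∃ k : ℕ, (2 ^ k : ℕ) • x = 0) → IsHig K V → ∀ x : V, x + x = 0 := by
  intro n
  induction n using Nat.strong_induction_on with
  | _ n ih =>
    intro V _ _ _ hn hp hH
    rcases subsingleton_or_nontrivial V with hV | hV
    · intro x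
      exact Subsingleton.elim _ _
    · -- `4V = 0`
      have hlt : Nat.card (twoV K V) < Nat.card V := two hp
      have hp2 : ∀ y : twoV K V, ∃ k : ℕ, (2 ^ k : ℕ) • y = 0 := by
        intro y
        obtain ⟨k, hk⟩ := hp (y : V)
        exact ⟨k, Subtype.ext (by simpa using hk)⟩
      have h2two : ∀ y : twoV K V, y + y = 0 :=
        ih (Nat.card (twoV K V)) (lt_of_lt_of_le hlt hn) (twoV K V) le_rfl hp2 (hH.sub _)
      have h4 : ∀ x : V, (4 : ℕ) • x = 0 := by
        intro x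
        have hx : x + x ∈ twoV K V := (mem_twoV _).2 ⟨x, rfl⟩
        have := congrArg Subtype.val (h2two ⟨x + x, hx⟩)
        simp only [AddMemClass.coe_add, ZeroMemClass.coe_zero] at this
        rw [show (4 : ℕ) • x = (x + x) + (x + x) by
          rw [show (4 : ℕ) = 2 + 2 by norm_num, add_nsmul, two_nsmul]]
        exact this
      -- the quotient
      have h2q : ∀ y : V ⧸ twoV K V, y + y = 0 := by
        intro y
        induction y using Submodule.Quotient.induction_on with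
        | H x =>
          rw [← Submodule.Quotient.mk_add, Submodule.Quotient.mk_eq_zero]
          exact (mem_twoV _).2 ⟨x, rfl⟩
      haveI : Finite (V ⧸ twoV K V) :=
        Finite.of_surjective _ (Submodule.mkQ_surjective (twoV K V))
      obtain ⟨sq, R, hq1, hq2⟩ := struct2 hK h2q (hH.quot (twoV K V))
      obtain ⟨s⟩ := exists_split hp hH
      obtain ⟨γ, hγ0, hγ1⟩ := (twob (K := K)).2 hK
      obtain ⟨e1, e2, e3⟩ := ebr h4 s sq hq1 R hq2 γ hγ0 hγ1
      obtain ⟨-, -, z1, z2, z3⟩ := zrl s γ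
      have h4C : ∀ c : Fix1 K V, (4 : ℕ) • c = 0 := fun c => Subtype.ext (by simpa using h4 (c : V))
      have hC := eco h4C (s.Ap γ) (s.Bt γ) (s.Dt γ) z1 z2 z3 e1 (Nat.card K) (twob (K := K)).1 e2 e3
      intro x
      obtain ⟨⟨c, d⟩, rfl⟩ := s.φ.symm.surjective x
      rw [← map_add]
      have : ((c, d) : Fix1 K V × Fix1 K V) + (c, d) = 0 := by
        rw [Prod.mk_add_mk, hC c, hC d]; rfl
      rw [this, map_zero]

end Cfsg.Agent.Helper95.Hig
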