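import Cfsg.Agent.Helper95.Hig.Basic
import Cfsg.Agent.Helper76.HIG_SPL
import Cfsg.Agent.Helper51.HIG_ZRL
import Cfsg.Agent.Helper76.HIG_MOD
import Cfsg.Agent.Helper65.HIG_HD1
import Cfsg.Agent.Helper49.HIG_HD2
import Cfsg.Agent.Helper65.HIG_HD3
import Cfsg.Agent.Helper10.HIG_HD4
import Cfsg.Agent.Helper49.HIG_HD5

set_option autoImplicit false

namespace Cfsg.Agent.Helper95.Hig

open Cfsg.Agent.Helper40.SL2Hom

universe u v w

section mod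
variable {K : Type u} [Field K] [CharP K 2] {V : Type v} [AddCommGroup V] [Module (ZG K) V]

/-! ## (SPL) the `S₃`-decomposition -/

/-- (SPL) `s = U 1`, `t = L 1 = W s W`, `w = W = s t s = t s t`, `s + t + w = 0` on `V` by (S3R).
`C = Fix1 = Fix(s)`, `Fix(t) = W·C`.
Existence: `3x = (x + s x) + (x + t x) + (x + w x)`; `x + s x ∈ C`, `x + t x ∈ W·C`, and for
`y = x + w x ∈ Fix(w)`: `y = -(t y) - (s y)` with `t y ∈ Fix(s)` (`s t y = s t w y = t y` as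
`s t w = s t t s t = t`) and `s y ∈ Fix(t)`. So `3V ⊆ C + W·C`; `3` is invertible on the finite
2-group `V`. Uniqueness: `C ∩ W·C ⊆ Fix(s) ∩ Fix(t) ⊆ Fix(s t)`, and `s t` has order 3, so
`x = s t x` gives `3x = 0`, `x = 0`. Then `φ (c + W d) := (c, d)`; `hW` is clear (`W W = 1`);
`hU1`: `s (W d) = -(t + w)(W d) = -W d - d` because `W d ∈ Fix(t)`. -/
theorem exists_split [Finite V] (hp : ∀ x : V, ∃ k : ℕ, (2 ^ k : ℕ) • x = 0) (hH : IsHig K V) :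
    Nonempty (Split K V) := by
  exact Cfsg.Agent.Helper76.Hig.exists_split hp hH

/-! ## (ZRL) block form of `U γ` over `ℤ` -/

/-- (ZRL) `U γ` commutes with `U 1`, so it preserves `Fix1`: `φ (U γ c) = (U γ c, 0)`.
Write `U γ (W d) = β d + W (D d)` (`β = Bt γ`, `D = Dt γ`), `A' = Ap γ`.
`U 1 (U γ (W d)) = U γ (U 1 (W d))` with `U 1 (c + W d) = (c - d) + W (-d)` gives
`β d - D d = -A' d - β d`, i.e. `2 β = D - A'`.  `U γ (U γ (W d)) = W d` gives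
`A' β + β D = 0`, and `U γ (U γ c) = c` gives `A' A' = 1`. -/
theorem zrl (s : Split K V) (γ : K) :
    (∀ c d : Fix1 K V, s.φ (act (U γ) (s.φ.symm (c, d))) = (s.Ap γ c + s.Bt γ d, s.Dt γ d)) ∧
    (∀ c : Fix1 K V, ((s.Ap γ c : Fix1 K V) : V) = act (U γ) (c : V)) ∧
    (∀ c : Fix1 K V, s.Bt γ c + s.Bt γ c = s.Dt γ c - s.Ap γ c) ∧
    (∀ c : Fix1 K V, s.Ap γ (s.Bt γ c) + s.Bt γ (s.Dt γ c) = 0) ∧
    (∀ c : Fix1 K V, s.Ap γ (s.Ap γ c) = c) := by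
  exact Cfsg.Agent.Helper51.Hig.zrl s γ

/-! ## (MOD) the characteristic-2 model -/

/-- (MOD) With `2V = 0`: `Dt γ = Ap γ` by (ZRL) (`2 β = 0`). Take `A γ := Ap γ + id`
(so `Ap γ c = c + A γ c`), `B γ := Bt γ`; `hU1` is `Split.hU1` with `-d = d`. -/
theorem exists_model (h2 : ∀ x : V, x + x = 0) (s : Split K V) :
    ∃ m : Model K V (Fix1 K V), m.φ = s.φ := by
  exact Cfsg.Agent.Helper76.Hig.exists_model h2 s

end mod

/-! ## (HDx) the axioms of `HData` for a model -/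
section hd
variable {K : Type u} [Field K] [CharP K 2] {V : Type v} [AddCommGroup V] [Module (ZG K) V]
  {C : Type w} [AddCommGroup C]

/-- (HD1) from `U 0 = 1`, `hU1`, and `U (γ+δ) = U γ * U δ = U δ * U γ`, `U γ * U γ = 1`:
evaluate both sides on `φ.symm (c, 0)` and `φ.symm (0, c)` with `Model.hU` and compare coordinates.
(`h2 : c + c = 0` is available for cancellation.) -/
theorem hd1 (h2 : ∀ c : C, c + c = 0) (m : Model K V C) :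
    (∀ c, m.A 0 c = 0) ∧ (∀ c, m.B 0 c = 0) ∧ (∀ c, m.A 1 c = 0) ∧ (∀ c, m.B 1 c = c) ∧
    (∀ γ δ c, m.A γ (m.A δ c) = m.A δ (m.A γ c)) ∧
    (∀ γ δ c, m.A (γ + δ) c = m.A γ c + m.A δ c + m.A γ (m.A δ c)) ∧
    (∀ γ δ c, m.B (γ + δ) c = m.B γ c + m.B δ c + m.A γ (m.B δ c) + m.B γ (m.A δ c)) ∧
    (∀ γ c, m.A γ (m.A γ c) = 0) ∧ (∀ γ c, m.A γ (m.B γ c) = m.B γ (m.A γ c)) := by
  exact Cfsg.Agent.Helper65.Hig.hd1 h2 m

/-- (HD2) block form of `L γ = W * U γ * W`: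
`L γ (c, d) = (c + A γ c, d + B γ c + A γ d)`. -/
theorem hd2 (m : Model K V C) (γ : K) (c d : C) :
    m.φ (act (L γ) (m.φ.symm (c, d))) = (c + m.A γ c, d + m.B γ c + m.A γ d) := by
  exact Cfsg.Agent.Helper49.Hig.hd2 m γ c d

/-- (HD3) `B γ (B γ⁻¹ c) = c`: the first coordinate of (S3R)(first formula) evaluated at
`φ.symm (c, 0)`, using `Model.hU`, (HD2) and `A γ (A γ⁻¹ c) = A γ⁻¹ (A γ c)` (HD1). -/
theorem hd3 (h2 : ∀ c : C, c + c = 0) (hH : IsHig K V) (m : Model K V C) (γ : K) (hγ : γ ≠ 0)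
    (c : C) : m.B γ (m.B γ⁻¹ c) = c := by
  exact Cfsg.Agent.Helper65.Hig.hd3 h2 hH m γ hγ c

/-- (HD4) block form of `w_γ = U γ * L γ⁻¹ * U γ`: by (S3R) second formula and `2V = 0`,
`w_γ x = U γ x + L γ⁻¹ x`, hence with `E c := A γ c + A γ⁻¹ c`:
`w_γ (c, d) = (E c + B γ d, B γ⁻¹ c + E d)`. -/
theorem hd4 (h2 : ∀ c : C, c + c = 0) (hH : IsHig K V) (m : Model K V C) (γ : K) (hγ : γ ≠ 0)
    (c d : C) :
    m.φ (act (U γ * L γ⁻¹ * U γ) (m.φ.symm (c, d))) =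
      (m.A γ c + m.A γ⁻¹ c + m.B γ d, m.B γ⁻¹ c + (m.A γ d + m.A γ⁻¹ d)) := by
  exact Cfsg.Agent.Helper10.Hig.hd4 h2 hH m γ hγ c d

/-- (HD5) `rel21` and `rel22`: evaluate the group relation
`w_γ * U δ * w_γ = L (δ / γ ^ 2)` (`wg_conj`) on `φ.symm (c, 0)` resp. `φ.symm (0, c)` using (HD4),
`Model.hU`, (HD2), and subtract the relation `w_γ * w_γ = 1` (`wg_sq`) evaluated at the same vector
(this removes the terms coming from the `1` in `U δ = 1 + a_δ`). In operator form, with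
`a_δ = [[A δ, B δ],[0, A δ]]`, `w_γ = [[E, B γ],[B γ⁻¹, E]]`, `E = A γ + A γ⁻¹`:
`w_γ a_δ w_γ = [[A ε, 0],[B ε, A ε]]`, `ε = δ / γ ^ 2`. `rel21` is the SECOND coordinate at `(c, 0)`
(the `(2,1)` entry), `rel22` is the SECOND coordinate at `(0, c)` (the `(2,2)` entry). -/
theorem hd5 (h2 : ∀ c : C, c + c = 0) (hH : IsHig K V) (m : Model K V C) (γ δ : K) (hγ : γ ≠ 0)
    (c : C) :
    (m.B γ⁻¹ (m.A δ (m.A γ c + m.A γ⁻¹ c)) + m.B γ⁻¹ (m.B δ (m.B γ⁻¹ c))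
      + (m.A γ (m.A δ (m.B γ⁻¹ c)) + m.A γ⁻¹ (m.A δ (m.B γ⁻¹ c))) = m.B (δ / γ ^ 2) c) ∧
    (m.B γ⁻¹ (m.A δ (m.B γ c)) + m.B γ⁻¹ (m.B δ (m.A γ c + m.A γ⁻¹ c))
      + (m.A γ (m.A δ (m.A γ c + m.A γ⁻¹ c)) + m.A γ⁻¹ (m.A δ (m.A γ c + m.A γ⁻¹ c)))
        = m.A (δ / γ ^ 2) c) := by
  exact Cfsg.Agent.Helper49.Hig.hd5 h2 hH m γ δ hγ c

end hd

end Cfsg.Agent.Helper95.Hig
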